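import Groth.Agent.FSch.K573.NotInd
import Groth.Agent.FSch.K181.FCls
import Groth.Agent.FCompl.K29.FmlUnit
import Mathlib.CategoryTheory.ObjectProperty.Ind
import Mathlib.Algebra.Homology.ExactSequence

/-!
# Assembly of the refutation of row S17024
-/

set_option autoImplicit false

universe v u

open CategoryTheory CategoryTheory.Limits Opposite TopologicalSpace

namespace K573.Assemble

open K29.RSec K29.RPres K181.Formal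
open scoped ZeroObject

/-- A five-term sequence built from a short exact sequence. -/
theorem exists_five {A : Type u} [Category.{v} A] [Abelian A] (S : ShortComplex A)
    (hS : S.ShortExact) : ∃ (T : ComposableArrows A 4), T.Exact ∧ T.obj 0 = (0 : A) ∧
      T.obj 1 = S.X₁ ∧ T.obj 2 = S.X₂ ∧ T.obj 3 = S.X₃ ∧ T.obj 4 = (0 : A) := by
  have := hS.mono_f
  have := hS.epi_g
  refine ⟨ComposableArrows.mk₄ (0 : (0 : A) ⟶ S.X₁) S.f S.g (0 : S.X₃ ⟶ (0 : A)), ?_, rfl, rfl, rfl,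
    rfl, rfl⟩
  have h₀ : (ShortComplex.mk (0 : (0 : A) ⟶ S.X₁) S.f zero_comp).Exact :=
    (ShortComplex.exact_iff_mono _ rfl).2 inferInstance
  have h₂ : (ShortComplex.mk S.g (0 : S.X₃ ⟶ (0 : A)) comp_zero).Exact :=
    (ShortComplex.exact_iff_epi _ rfl).2 inferInstance
  exact ComposableArrows.exact_of_δ₀ h₀.exact_toComposableArrows
    (ComposableArrows.exact_of_δ₀ hS.exact.exact_toComposableArrows h₂.exact_toComposableArrows)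

/-- The proposition stated by the frozen row S17024 (binders as in the template). -/
def Stmt : Prop := ∀ (𝔛 : FSch.Sys.{u}) (h𝔛 : 𝔛.IsLocNoethFormal)
    (S : ComposableArrows (FSch.ModF 𝔛 h𝔛.1) 4) (_hS : S.Exact)
    (_h₀ : (ObjectProperty.ind.{u} fun 𝔊 : FSch.ModF 𝔛 h𝔛.1 => FSch.IsCohF 𝔛 h𝔛.1 𝔊) (S.obj 0)) (_h₁ : (ObjectProperty.ind.{u} fun 𝔊 : FSch.ModF 𝔛 h𝔛.1 => FSch.IsCohF 𝔛 h𝔛.1 𝔊) (S.obj 1)) (_h₃ : (ObjectProperty.ind.{u} fun 𝔊 : FSch.ModF 𝔛 h𝔛.1 => FSch.IsCohF 𝔛 h𝔛.1 𝔊) (S.obj 3)) (_h₄ : (ObjectProperty.ind.{u} fun 𝔊 : FSch.ModF 𝔛 h𝔛.1 => FSch.IsCohF 𝔛 h𝔛.1 𝔊) (S.obj 4)),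
    (ObjectProperty.ind.{u} fun 𝔊 : FSch.ModF 𝔛 h𝔛.1 => FSch.IsCohF 𝔛 h𝔛.1 𝔊) (S.obj 2)

/-- The row would make ind-coherent modules closed under extensions. -/
theorem Stmt.ext (h : Stmt.{u}) {𝔛 : FSch.Sys.{u}} (h𝔛 : 𝔛.IsLocNoethFormal)
    (S : ShortComplex (FSch.ModF 𝔛 h𝔛.1)) (hS : S.ShortExact)
    (h₁ : IndCoh h𝔛 S.X₁) (h₃ : IndCoh h𝔛 S.X₃) : IndCoh h𝔛 S.X₂ := by
  obtain ⟨T, hT, e0, e1, e2, e3, e4⟩ := exists_five S hS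
  have hz : IndCoh h𝔛 (0 : FSch.ModF 𝔛 h𝔛.1) :=
    ObjectProperty.le_ind _ _ ((cohCls h𝔛).zero (isZero_zero _))
  have := h 𝔛 h𝔛 T hT (by rw [e0]; exact hz) (by rw [e1]; exact h₁) (by rw [e3]; exact h₃)
    (by rw [e4]; exact hz)
  rw [e2] at this
  exact this

/-- **Refutation from a model.** -/
theorem not_stmt (𝔛 : FSch.Sys.{u}) (h𝔛 : 𝔛.IsLocNoethFormal) (U : Opens (𝔛.X 0))
    (V : ℕ → Opens (𝔛.X 0)) (η : 𝔛.X 0) (p : ℕ → 𝔛.X 0) (hUV : ∀ i, U ≤ V i)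
    (hη : η ∈ U) (hp : ∀ i, p i ∈ V i) (hU : ∀ W : Opens (𝔛.X 0), η ∈ W → U ≤ W)
    (hV : ∀ i (W : Opens (𝔛.X 0)), p i ∈ W → V i ≤ W)
    (hnt : Nontrivial (O (𝔛.Osh h𝔛.1) U))
    (σ : O (𝔛.Osh h𝔛.1) U)
    (hσ : ∀ i (a b : O (𝔛.Osh h𝔛.1) (V i)), resO (hUV i) a * σ = resO (hUV i) b → a = 0)
    (G : FSch.ModF 𝔛 h𝔛.1)
    (f : (∐ fun _ : ULift.{u} ℕ => FSch.unitF 𝔛 h𝔛.1) ⟶ G) (g : G ⟶ FSch.unitF 𝔛 h𝔛.1)
    (w : f ≫ g = 0) (hS : (ShortComplex.mk f g w).ShortExact)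
    (s : ∀ i : ULift.{u} ℕ, Sec G (V i.down)) (v : Sec G U)
    (hs : ∀ i : ULift.{u} ℕ, app g (V i.down) (s i) = ofO 1)
    (hsσ : ∀ i : ULift.{u} ℕ, res G (hUV i.down) (s i) =
      v + app f U (app (Sigma.ι (fun _ : ULift.{u} ℕ => FSch.unitF 𝔛 h𝔛.1) i) U (ofO σ))) :
    ¬ Stmt.{u} := by
  intro h
  have h₃ : IndCoh h𝔛 (FSch.unitF 𝔛 h𝔛.1) := ObjectProperty.le_ind _ _ (isCohF_unit h𝔛)
  have h₁ : IndCoh h𝔛 (∐ fun _ : ULift.{u} ℕ => FSch.unitF 𝔛 h𝔛.1) :=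
    (cohCls h𝔛).ind_sigma _ fun _ => h₃
  have h₂ : IndCoh h𝔛 G := h.ext h𝔛 (ShortComplex.mk f g w) hS h₁ h₃
  refine K573.NotInd.not_ind (R := 𝔛.Osh h𝔛.1) (I := ULift.{u} ℕ) ⟨0⟩ hη hU
    (V := fun i => V i.down) (p := fun i => p i.down) (fun i => hp i.down) (fun i => hV i.down)
    (fun i => hUV i.down) (coproductIsCoproduct fun _ : ULift.{u} ℕ => FSch.unitF 𝔛 h𝔛.1)
    hS (e := fun i => ofO 1) (e₀ := ofO 1) (fun i => ?_) (fun i t => ?_) (fun a ha => ?_) hs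
    (v := v) (σ := ofO σ) hsσ (𝔪 := ⊥) bot_ne_top (fun i a y ha hay => ?_) h₂
  · exact congrArg ofO (map_one (resO (R := 𝔛.Osh h𝔛.1) (hUV i.down)))
  · exact ⟨toO t, (mul_one (toO t)).symm⟩
  · exact (mul_one a).symm.trans ha
  · refine ha ?_
    rw [hσ i.down a (toO y) hay, map_zero]
    exact Ideal.zero_mem _

end K573.Assemble
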