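import Groth.Agent.FSch.K180.ExtClosed
import Groth.Agent.FSch.K181.SecCoprod

/-!
# An extension which is not ind-coherent

The abstract argument behind the counterexample of departures/helper180.md to row S17024: on a ringed space with a
point `η` of minimal neighbourhood `U` and infinitely many points `p i` of minimal neighbourhoods `V i ⊇ U`, let `G`
be an extension of a module `P` which is free of rank one over `U` (and cyclic over the `V i`) by a direct sum
`F = ⨁ᵢ N`, with sections `s i ∈ G(V i)` lifting the generators of `P` and `s i = v + ιᵢ σ` over `U`.  If no multiple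
`h • σ` with `h ∈ O(V i)` outside a proper ideal of `O(U)` extends to `V i`, then `G` is not a filtered colimit of
modules of finite presentation.
-/

set_option autoImplicit false

universe u

open CategoryTheory CategoryTheory.Limits Opposite TopologicalSpace

namespace K573.NotInd

open K29.RSec Groth.Agent.Gaga.H976.TM3 K292.Sp K180.ExtLoc K181.SecCoprod K181.Good

variable {T : TopCat.{u}} {R : Sheaf (Opens.grothendieckTopology T) CommRingCat.{u}}

/-- Exactness on sections over a minimal neighbourhood. -/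
theorem exact_min {S : ShortComplex (Mod R)} (hS : S.Exact) {V : Opens T} {p : T} (hp : p ∈ V)
    (hV : ∀ W : Opens T, p ∈ W → V ≤ W) (t : Sec S.X₂ V) (ht : app S.g V t = 0) :
    ∃ s : Sec S.X₁ V, app S.f V s = t := by
  obtain ⟨W, hW, hpW, s, hs⟩ := exact_loc hS t ht p hp
  let s' : Sec S.X₁ W := s
  have hs' : app S.f W s' = res S.X₂ hW t := hs
  refine ⟨res S.X₁ (hV W hpW) s', ?_⟩
  rw [app_res, hs', res_res, res_self]

/-- Sections over a minimal neighbourhood of a filtered colimit come from a stage. -/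
theorem rep_min {J : Type u} [SmallCategory J] [IsFiltered J] {D : J ⥤ Mod R} {c : Cocone D}
    (hc : IsColimit c) {V : Opens T} {p : T} (hp : p ∈ V) (hV : ∀ W : Opens T, p ∈ W → V ≤ W)
    (s : Sec c.pt V) : ∃ (j : J) (t : Sec (D.obj j) V), app (inj c j) V t = s := by
  obtain ⟨j, W, hpW, hW, t, ht⟩ := exists_local_rep hc s p hp
  refine ⟨j, res _ (hV W hpW) t, ?_⟩
  rw [app_res, ht, res_res, res_self]

/-- Generators over a minimal neighbourhood of a module of finite type. -/
theorem gen_min {C : Mod R} (hC : SheafOfModules.IsFiniteType (R := ringSheaf R) C)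
    {V : Opens T} {p : T} (hV : ∀ W : Opens T, p ∈ W → V ≤ W)
    {U : Opens T} {η : T} (hη : η ∈ U) (hU : ∀ W : Opens T, η ∈ W → U ≤ W) (hUV : U ≤ V) :
    ∃ (n : ℕ) (z : Fin n → Sec C V), ∀ t : Sec C U, ∃ a : Fin n → O R U,
      t = ∑ r, a r • res C hUV (z r) := by
  obtain ⟨W, hpW, n, z, hz⟩ := (isFiniteType_iff C).1 hC p
  refine ⟨n, fun r => res C (hV W hpW) (show Sec C W from z r), fun t => ?_⟩
  obtain ⟨V', h', hηV', c, hc⟩ := (lgen_iff _).1 hz U (hUV.trans (hV W hpW)) t η hη
  obtain rfl : V' = U := le_antisymm h' (hU V' hηV')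
  refine ⟨c, ?_⟩
  rw [res_self] at hc
  rw [hc]
  refine Finset.sum_congr rfl fun r _ => ?_
  rw [res_res]

section

variable {I : Type u} {U : Opens T} {V : I → Opens T} (hUV : ∀ i, U ≤ V i) {N : Mod R}
  {c : Cofan (fun _ : I => N)} (hc : IsColimit c) {G P C : Mod R} {f : c.pt ⟶ G} {g : G ⟶ P}
  {w : f ≫ g = 0} (hS : (ShortComplex.mk f g w).Exact)
  {e : ∀ i, Sec P (V i)} {e₀ : Sec P U} {s : ∀ i, Sec G (V i)} {v : Sec G U} {σ : Sec N U}

include hUV hS in
/-- The image of a section over `V i` of a module mapping to the extension. -/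
theorem decomp {i : I} {p : T} (hp : p ∈ V i) (hV : ∀ W : Opens T, p ∈ W → V i ≤ W)
    (hgen : ∀ t : Sec P (V i), ∃ h : O R (V i), t = h • e i) (hs : app g (V i) (s i) = e i)
    (hsσ : res G (hUV i) (s i) = v + app f U (app (c.inj i) U σ)) (x : Sec G (V i)) :
    ∃ (h : O R (V i)) (y : Sec c.pt (V i)), app g (V i) x = h • e i ∧
      res G (hUV i) x = resO (hUV i) h • v +
        app f U (resO (hUV i) h • app (c.inj i) U σ + res c.pt (hUV i) y) := by
  obtain ⟨h, hh⟩ := hgen (app g (V i) x)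
  have h0 : app g (V i) (x - h • s i) = 0 := by
    rw [map_sub, map_smul, hs, hh, sub_self]
  obtain ⟨y, hy⟩ := exact_min hS hp hV (x - h • s i) h0
  have hy' : app f (V i) y = x - h • s i := hy
  refine ⟨h, y, hh, ?_⟩
  have e1 : res G (hUV i) x = res G (hUV i) (h • s i) + res G (hUV i) (app f (V i) y) := by
    rw [← map_add, hy', add_sub_cancel]
  rw [e1, res_smul, hsσ, map_add, map_smul, app_res, smul_add, add_assoc]

end

/-- **The extension is not ind-coherent.** -/
theorem not_ind {I : Type u} [Infinite I] (i₀ : I)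
    {U : Opens T} {η : T} (hη : η ∈ U) (hU : ∀ W : Opens T, η ∈ W → U ≤ W)
    {V : I → Opens T} {p : I → T} (hp : ∀ i, p i ∈ V i)
    (hV : ∀ i (W : Opens T), p i ∈ W → V i ≤ W) (hUV : ∀ i, U ≤ V i)
    {N : Mod R} {c : Cofan (fun _ : I => N)} (hc : IsColimit c) {G P : Mod R}
    {f : c.pt ⟶ G} {g : G ⟶ P} {w : f ≫ g = 0} (hS : (ShortComplex.mk f g w).ShortExact)
    {e : ∀ i, Sec P (V i)} {e₀ : Sec P U} (he : ∀ i, res P (hUV i) (e i) = e₀)
    (hgen : ∀ i (t : Sec P (V i)), ∃ h : O R (V i), t = h • e i)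
    (hfree : ∀ a : O R U, a • e₀ = 0 → a = 0)
    {s : ∀ i, Sec G (V i)} (hs : ∀ i, app g (V i) (s i) = e i)
    {v : Sec G U} {σ : Sec N U}
    (hsσ : ∀ i, res G (hUV i) (s i) = v + app f U (app (c.inj i) U σ))
    {𝔪 : Ideal (O R U)} (h𝔪 : 𝔪 ≠ ⊤)
    (halg : ∀ i (h : O R (V i)) (y : Sec N (V i)), resO (hUV i) h ∉ 𝔪 →
      resO (hUV i) h • σ ≠ res N (hUV i) y) :
    ¬ ObjectProperty.ind.{u}
      (fun M : Mod R => SheafOfModules.IsFinitePresentation (R := ringSheaf R) M) G := by
  rintro ⟨J, _, _, pres, hJ⟩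
  have hmf : Mono f := hS.mono_f
  -- the stage
  obtain ⟨j, t₀, ht₀⟩ := rep_min pres.isColimit (hp i₀) (hV i₀) (s i₀)
  let C : Mod R := pres.diag.obj j
  let φ : C ⟶ G := pres.ι.app j
  have hC : SheafOfModules.IsFiniteType (R := ringSheaf R) C := by
    have := hJ j
    exact inferInstanceAs (SheafOfModules.IsFiniteType (R := ringSheaf R) (pres.diag.obj j))
  have hgv : app g U v = e₀ := by
    have h1 := congrArg (app g U) (hsσ i₀)
    rw [map_add, ← app_comp f g, w, app_res, hs, he] at h1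
    exact (h1.trans (add_zero _)).symm
  -- decomposition of the images of sections of `C`
  have hdec : ∀ i (z : Sec C (V i)), ∃ (h : O R (V i)) (y : Sec c.pt (V i)),
      app g (V i) (app φ (V i) z) = h • e i ∧
      app φ U (res C (hUV i) z) = resO (hUV i) h • v +
        app f U (resO (hUV i) h • app (c.inj i) U σ + res c.pt (hUV i) y) := by
    intro i z
    obtain ⟨h, y, h1, h2⟩ := decomp hUV hS.exact (hp i) (hV i) (hgen i) (hs i) (hsσ i)
      (app φ (V i) z)
    exact ⟨h, y, h1, by rw [app_res, h2]⟩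
  -- finite support
  obtain ⟨n, z, hz⟩ := gen_min hC (hV i₀) hη hU (hUV i₀)
  choose h₀ y₀ hy₀ hy₀' using fun r => hdec i₀ (z r)
  have hfin : ∀ r, ∃ t : Finset I, ∀ i, i ∉ t → app (proj hc i) (V i₀) (y₀ r) = 0 := by
    intro r
    obtain ⟨W, hpW, hW, hfs⟩ := exists_isFinSum_nhd hc (y₀ r) (p i₀) (hp i₀)
    have h1 := hfs.res (hV i₀ W hpW)
    rw [res_res, res_self] at h1
    obtain ⟨t, -, ht⟩ := h1.eq_sum_proj hc
    exact ⟨t, ht⟩
  choose F hF using hfin
  classical
  obtain ⟨i, hi⟩ := Infinite.exists_notMem_finset (insert i₀ (Finset.univ.biUnion F))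
  rw [Finset.mem_insert, not_or, Finset.mem_biUnion] at hi
  have hiF : ∀ r, i ∉ F r := fun r hr => hi.2 ⟨r, Finset.mem_univ r, hr⟩
  have hsupp : ∀ y : Sec C U, ∃ (b : O R U) (x : Sec c.pt U), app φ U y = b • v + app f U x ∧
      app (proj hc i) U x = 0 := by
    intro y
    obtain ⟨a, ha⟩ := hz y
    refine ⟨∑ r, a r * resO (hUV i₀) (h₀ r), ∑ r, a r • (resO (hUV i₀) (h₀ r) •
      app (c.inj i₀) U σ + res c.pt (hUV i₀) (y₀ r)), ?_, ?_⟩
    · rw [ha, map_sum, Finset.sum_smul, map_sum, ← Finset.sum_add_distrib]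
      refine Finset.sum_congr rfl fun r _ => ?_
      rw [map_smul, hy₀', smul_add, map_smul (app f U), mul_smul]
    · rw [map_sum]
      refine Finset.sum_eq_zero fun r _ => ?_
      have e1 : app (proj hc i) U (app (c.inj i₀) U σ) = 0 := by
        rw [← app_comp, inj_proj_ne hc (fun h => hi.1 h.symm)]; rfl
      rw [map_smul, map_add, map_smul, e1, app_res, hF r i (hiF r), map_zero, smul_zero, add_zero,
        smul_zero]
  -- the chart `V i`
  obtain ⟨m, z', hz'⟩ := gen_min hC (hV i) hη hU (hUV i)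
  choose h₁ y₁ hy₁ hy₁' using fun r => hdec i (z' r)
  obtain ⟨a, ha⟩ := hz' (res C (hUV i₀) t₀)
  have hsum : (∑ r, a r * resO (hUV i) (h₁ r)) = 1 := by
    have e1 : app g U (app φ U (res C (hUV i₀) t₀)) = e₀ := by
      have : app φ (V i₀) t₀ = s i₀ := ht₀
      rw [app_res, this, app_res, hs, he]
    have e2 : ∀ r, app g U (app φ U (res C (hUV i) (z' r))) = resO (hUV i) (h₁ r) • e₀ := by
      intro r
      rw [app_res, app_res, hy₁, res_smul, he]
    rw [ha, map_sum, map_sum] at e1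
    have e3 : (∑ r, a r * resO (hUV i) (h₁ r)) • e₀ = (1 : O R U) • e₀ := by
      rw [one_smul]
      refine Eq.trans ?_ e1
      rw [Finset.sum_smul]
      refine Finset.sum_congr rfl fun r _ => ?_
      rw [map_smul, map_smul, e2, mul_smul]
    exact sub_eq_zero.1 (hfree _ (by rw [sub_smul, e3, sub_self]))
  obtain ⟨r, hr⟩ : ∃ r, resO (hUV i) (h₁ r) ∉ 𝔪 := by
    by_contra hcon
    push Not at hcon
    refine h𝔪 ((Ideal.eq_top_iff_one _).2 ?_)
    rw [← hsum]
    exact Ideal.sum_mem _ fun r _ => Ideal.mul_mem_left _ _ (hcon r)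
  obtain ⟨b, x, hx, hx0⟩ := hsupp (res C (hUV i) (z' r))
  have e1 := hx.symm.trans (hy₁' r)
  have hb : b = resO (hUV i) (h₁ r) := by
    have e2 := congrArg (app g U) e1
    have hfg : ∀ y : Sec c.pt U, app g U (app f U y) = 0 := fun y => by
      rw [← app_comp, w]; rfl
    rw [map_add, map_add, hfg, hfg, add_zero, add_zero, map_smul, map_smul, hgv] at e2
    exact sub_eq_zero.1 (hfree _ (by rw [sub_smul, e2, sub_self]))
  rw [hb, add_right_inj] at e1
  have e3 : x = resO (hUV i) (h₁ r) • app (c.inj i) U σ + res c.pt (hUV i) (y₁ r) :=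
    mono_inj f _ _ e1
  rw [e3, map_add, map_smul, app_res] at hx0
  have e4 : app (proj hc i) U (app (c.inj i) U σ) = σ := by
    rw [← app_comp, inj_proj]; rfl
  rw [e4] at hx0
  refine halg i (h₁ r) (-(app (proj hc i) (V i) (y₁ r))) hr ?_
  rw [map_neg]
  exact eq_neg_of_add_eq_zero_left hx0

end K573.NotInd
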